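import Cfsg.Agent.H317.PQ.Defs
import Cfsg.Prelude.Def_Characters

/-!
# S4612: multiplicity free permutation characters (helper329)
-/

set_option autoImplicit false

open Cfsg Cfsg.Agent

namespace Cfsg.Agent.H329.PQ

universe u v

/-- `X` a transitive `G`-set whose permutation character is the sum of the different irreducible characters `χ i` -/
structure MF (G : Type u) [Group G] (X : Type v) [MulAction G X] {r : ℕ} (χ : Fin r → IrrCharacter G) : Prop where
  inj : Function.Injective χ
  sum : ∀ g : G, (Nat.card (MulAction.fixedBy X g) : ℂ) = ∑ i, (χ i : G → ℂ) g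

end Cfsg.Agent.H329.PQ
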