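import Cfsg.Agent.H329.PQ.MF
import Cfsg.Agent.H133.PB.RegSum
import Cfsg.Agent.H133.PB.Local
import Cfsg.Agent.Blocks.Osima
import Cfsg.Agent.Blocks.BlockIdem
import Cfsg.Agent.Blocks.PrincipalSection
import Cfsg.Agent.Blocks.ExistsModular
import Cfsg.Agent.Blocks.RegularCount

/-!
# S4612: the trace test for permutation characters (helper329)

* `sum_fixed` : `∑ g, f g * #Fix(g) = #X * ∑ h ∈ stabilizer, f h` for class functions `f`;
* `coset_test` : the values of the idempotent of the principal block are integral at `p`, also summed over a coset;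
* `trace_test` : the degree of the `B0(p)`-part of a multiplicity free permutation character.
-/

set_option autoImplicit false

open Cfsg Cfsg.Agent

namespace Cfsg.Agent.H329.PQ

open Cfsg.Agent.H317.PQ Cfsg.Agent.Characters.Core Cfsg.Agent.Blocks.Basic Cfsg.Agent.Blocks.Local
open Cfsg.Agent.Blocks.Blau (rep)
open scoped ComplexConjugate

universe u v

variable {p q : ℕ} {G : Type u} [Group G]

/-- class functions against a transitive permutation character -/
theorem sum_fixed [Fintype G] {X : Type v} [MulAction G X] [Finite X] [MulAction.IsPretransitive G X] (x₀ : X)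
    [Fintype (MulAction.stabilizer G x₀)] (f : G → ℂ) (hf : ∀ g h : G, f (h * g * h⁻¹) = f g) :
    ∑ g : G, f g * (Nat.card (MulAction.fixedBy X g) : ℂ) =
      (Nat.card X : ℂ) * ∑ h : MulAction.stabilizer G x₀, f h := by
  classical
  have := Fintype.ofFinite X
  have h1 : ∀ g : G, (Nat.card (MulAction.fixedBy X g) : ℂ) = ∑ x : X, if g • x = x then (1 : ℂ) else 0 := by
    intro g
    rw [Finset.sum_ite, Finset.sum_const_zero, add_zero, Finset.sum_const, nsmul_eq_mul, mul_one,
      ← Fintype.card_subtype, ← Nat.card_eq_fintype_card]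
    rfl
  simp only [h1, Finset.mul_sum]
  rw [Finset.sum_comm]
  have h2 : ∀ x : X, ∑ g : G, f g * (if g • x = x then (1 : ℂ) else 0) = ∑ h : MulAction.stabilizer G x₀, f h := by
    intro x
    obtain ⟨s, rfl⟩ := MulAction.exists_smul_eq G x₀ x
    have h3 : ∑ g : G, f g * (if g • s • x₀ = s • x₀ then (1 : ℂ) else 0) =
        ∑ g : G, f g * (if g • x₀ = x₀ then (1 : ℂ) else 0) := by
      refine Fintype.sum_equiv (MulAut.conj s⁻¹).toEquiv _ _ fun g => ?_
      have h4 : (MulAut.conj s⁻¹).toEquiv g = s⁻¹ * g * s⁻¹⁻¹ := rfl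
      rw [h4, hf]
      congr 2
      rw [inv_inv, mul_smul, mul_smul, inv_smul_eq_iff]
    rw [h3]
    have h5 : ∀ g : G, f g * (if g • x₀ = x₀ then (1 : ℂ) else 0) = if g • x₀ = x₀ then f g else 0 := by
      intro g
      split_ifs <;> simp
    simp only [h5]
    rw [← Finset.sum_filter]
    refine Finset.sum_subtype _ (fun g => ?_) f
    rw [Finset.mem_filter]
    exact ⟨fun h => h.2, fun h => ⟨Finset.mem_univ _, h⟩⟩
  rw [Finset.sum_congr rfl fun x _ => h2 x, Finset.sum_const, Finset.card_univ, nsmul_eq_mul,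
    Nat.card_eq_fintype_card, Finset.mul_sum]

/-- a natural number which is `m` times a local integer, `p ^ k ∣ m` -/
theorem dvd_of_local {M : Ideal AlgInt} (hp : p.Prime) (hM : IsPModular p M) {n m k : ℕ} {c : ℂ}
    (hc : MemLocalRing M c) (h : (n : ℂ) = m * c) (hk : p ^ k ∣ m) : p ^ k ∣ n := by
  have : M.IsPrime := isPrime_of_isPModular hM
  obtain ⟨m', rfl⟩ := hk
  rcases Nat.eq_zero_or_pos n with rfl | hn
  · exact dvd_zero _
  by_contra hcon
  obtain ⟨j, a, ha, rfl⟩ := Nat.exists_eq_pow_mul_and_not_dvd hn.ne' p hp.one_lt.ne'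
  have hjk : j < k := by
    by_contra hjk
    exact hcon ((pow_dvd_pow p (not_lt.1 hjk)).mul_right a)
  obtain ⟨i, rfl⟩ : ∃ i, k = j + 1 + i := ⟨k - (j + 1), by omega⟩
  have hp0 : (p : ℂ) ≠ 0 := by exact_mod_cast hp.ne_zero
  have h1 : (a : ℂ) = (p : ℂ) * (((p ^ i * m' : ℕ) : ℂ) * c) := by
    refine mul_left_cancel₀ (pow_ne_zero j hp0) ?_
    push_cast at h ⊢
    rw [h]
    ring
  have h2 : MemLocalIdeal M (a : ℂ) := by
    rw [h1]
    exact memLocalIdeal_mul_right (memLocalIdeal_p hM) (memLocalRing_mul (memLocalRing_natCast _) hc)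
  exact ha ((memLocalIdeal_natCast_iff hM a).1 h2)

theorem coeff_mem [Finite G] (hp : p.Prime) {M : Ideal AlgInt} (hM : IsPModular p M) (g : G) :
    MemLocalRing M (blockCoeff (B0 p G) g) := by
  have : Fact p.Prime := ⟨hp⟩
  rw [B0_eq hp hM]
  exact Cfsg.Agent.Blocks.Osima.memLocalRing_blockCoeff hM
    Cfsg.Agent.Blocks.PrincipalSection.isPBlock_principalBlock g

/-- general form: the values of the idempotent are integral at `p`, also summed over a coset -/
theorem coset_test [Fintype G] (hp : p.Prime) {M : Ideal AlgInt} (hM : IsPModular p M) (H : Subgroup G) (g : G) :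
    MemLocalRing M ((Nat.card G : ℂ)⁻¹ * ∑ᶠ χ ∈ B0 p G, (χ : G → ℂ) 1 * ∑ᶠ h ∈ H, (χ : G → ℂ) (g * h)) := by
  classical
  have : M.IsPrime := isPrime_of_isPModular hM
  have : Finite (IrrCharacter G) := finite_irr
  have key : (Nat.card G : ℂ)⁻¹ * ∑ᶠ χ ∈ B0 p G, (χ : G → ℂ) 1 * ∑ᶠ h ∈ H, (χ : G → ℂ) (g * h) =
      ∑ h ∈ (Set.toFinite (H : Set G)).toFinset, blockCoeff (B0 p G) (g * h)⁻¹ := by
    have h1 : ∀ h : G, blockCoeff (B0 p G) (g * h)⁻¹ =
        (Nat.card G : ℂ)⁻¹ * ∑ χ ∈ (Set.toFinite (B0 p G)).toFinset, (χ : G → ℂ) 1 * (χ : G → ℂ) (g * h) := by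
      intro h
      rw [blockCoeff_def, finsum_mem_eq_finite_toFinset_sum _ (Set.toFinite _)]
      congr 1
      refine Finset.sum_congr rfl fun χ _ => ?_
      rw [← isCharacter_apply_inv (isIrr_isCharacter χ.2), inv_inv]
    simp only [h1]
    rw [← Finset.mul_sum]
    congr 1
    rw [finsum_mem_eq_finite_toFinset_sum _ (Set.toFinite _), Finset.sum_comm]
    refine Finset.sum_congr rfl fun χ _ => ?_
    rw [← Finset.mul_sum]
    congr 1
    have h2 : (∑ᶠ h ∈ H, (χ : G → ℂ) (g * h)) = ∑ᶠ h ∈ (H : Set G), (χ : G → ℂ) (g * h) := rfl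
    rw [h2, finsum_mem_eq_finite_toFinset_sum _ (Set.toFinite _)]
  rw [key]
  exact memLocalRing_sum fun h _ => coeff_mem hp hM _

theorem trace_test [Finite G] (hp : p.Prime) {X : Type v} [MulAction G X] [Finite X] [MulAction.IsPretransitive G X]
    {r : ℕ} {χ : Fin r → IrrCharacter G} (hX : MF G X χ) (S : Finset (Fin r)) (hS : ∀ i, i ∈ S ↔ χ i ∈ B0 p G) :
    (∀ k : ℕ, p ^ k ∣ Nat.card X → p ^ k ∣ ∑ i ∈ S, charDegree (χ i : G → ℂ)) ∧
    (¬ p ∣ Nat.card X → ¬ p ∣ ∑ i ∈ S, charDegree (χ i : G → ℂ)) := by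
  classical
  have : Fact p.Prime := ⟨hp⟩
  have := Fintype.ofFinite G
  obtain ⟨M, hM⟩ := Cfsg.Agent.Blocks.ExistsModular.exists_isPModular hp
  have hMp : M.IsPrime := isPrime_of_isPModular hM
  rcases isEmpty_or_nonempty X with hE | ⟨⟨x₀⟩⟩
  · -- the empty set: the sum of the irreducible characters is zero
    have h0 : Nat.card X = 0 := by
      rw [Nat.card_eq_zero]
      exact Or.inl hE
    have h1 : Nat.card (MulAction.fixedBy X (1 : G)) = 0 := by
      rw [Nat.card_eq_zero]
      exact Or.inl ⟨fun x => hE.elim x.1⟩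
    have h2 := hX.sum 1
    rw [h1] at h2
    simp only [fun i => irr_one_eq_charDegree (χ i).2] at h2
    have h3 : ∑ i, charDegree (χ i : G → ℂ) = 0 := by exact_mod_cast h2.symm
    have h4 : ∑ i ∈ S, charDegree (χ i : G → ℂ) = 0 :=
      Nat.le_zero.1 (h3 ▸ Finset.sum_le_univ_sum_of_nonneg fun i => Nat.zero_le _)
    rw [h4, h0]
    exact ⟨fun k _ => dvd_zero _, fun h => absurd (dvd_zero p) h⟩
  have hdeg : ∀ i, (χ i : G → ℂ) 1 = (charDegree (χ i : G → ℂ) : ℂ) := fun i => irr_one_eq_charDegree (χ i).2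
  constructor
  · intro k hk
    have h1 := sum_fixed x₀ (blockCoeff (B0 p G)) (fun g h => by
      exact (blockCoeff_isConj (B0 p G) (isConj_iff.2 ⟨h, rfl⟩)).symm)
    have h2 : ∑ g : G, blockCoeff (B0 p G) g * (Nat.card (MulAction.fixedBy X g) : ℂ) =
        ∑ i ∈ S, (charDegree (χ i : G → ℂ) : ℂ) := by
      simp only [hX.sum, Finset.mul_sum]
      rw [Finset.sum_comm]
      have h3 : ∀ i, ∑ g : G, blockCoeff (B0 p G) g * (χ i : G → ℂ) g =
          if i ∈ S then (charDegree (χ i : G → ℂ) : ℂ) else 0 := by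
        intro i
        have h4 := Cfsg.Agent.Blocks.BlockIdem.lin_blockCoeff (B0 p G) (χ i)
        rw [Cfsg.Agent.Blocks.ConvCentral.lin_def] at h4
        rw [h4]
        by_cases hi : i ∈ S
        · rw [if_pos hi, if_pos ((hS i).1 hi), hdeg]
        · rw [if_neg hi, if_neg (fun h => hi ((hS i).2 h))]
      rw [Finset.sum_congr rfl fun i _ => h3 i, ← Finset.sum_filter]
      congr 1
      ext i
      simp
    refine dvd_of_local hp hM (m := Nat.card X) (c := ∑ h : MulAction.stabilizer G x₀, blockCoeff (B0 p G) h) ?_ ?_ hk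
    · exact memLocalRing_sum fun h _ => coeff_mem hp hM _
    · rw [← h1, h2]
      push_cast
      rfl
  · intro hX' hdvd
    -- the sum over the `p`-regular elements
    let φ : G → ℂ := fun g => if ¬ p ∣ orderOf g then 1 else 0
    have h1 := sum_fixed x₀ φ (fun g h => by
      show (if ¬ p ∣ orderOf (h * g * h⁻¹) then (1 : ℂ) else 0) = _
      rw [show orderOf (h * g * h⁻¹) = orderOf g from (MulAut.conj h).orderOf_eq g])
    set R : ℂ := ((Nat.card {x : G // ¬ p ∣ orderOf x} : ℕ) : ℂ) with hR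
    have := Fintype.ofFinite (ConjClasses G)
    have hreg : ∀ ψ : IrrCharacter G, ψ ∈ B0 p G →
        MemLocalIdeal M (∑ g : G with ¬ p ∣ orderOf g, (ψ : G → ℂ) g - (ψ : G → ℂ) 1 * R) := by
      intro ψ hψ
      have hψ1 : (ψ : G → ℂ) 1 ≠ 0 := by
        rw [irr_one_eq_charDegree ψ.2]
        exact_mod_cast (charDegree_pos ψ.2).ne'
      have h1 := Cfsg.Agent.H133.PB.sum_regular_eq p (irr_isClassFunction ψ.2)
      rw [← Finset.sum_div] at h1
      have h2 := Cfsg.Agent.H133.PB.sum_regular_eq p (irr_isClassFunction (isIrrCharacter_one (G := G)))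
      have h3 : MemLocalIdeal M (∑ c : ConjClasses G with ¬ p ∣ orderOf (rep c),
          (centralChar (fun _ : G => (1 : ℂ)) (rep c) -
            centralChar (ψ : G → ℂ) (rep c))) :=
        memLocalIdeal_sum fun c _ => hψ M hM _
      rw [Finset.sum_sub_distrib, ← h1, ← h2] at h3
      have h4 : ∑ k : G with ¬ p ∣ orderOf k, (1 : ℂ) / (1 : ℂ) = R := by
        rw [Finset.sum_const, div_one, nsmul_eq_mul, mul_one, hR, Nat.card_eq_fintype_card, Fintype.card_subtype]
      rw [h4] at h3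
      have h5 : ∑ g : G with ¬ p ∣ orderOf g, (ψ : G → ℂ) g - (ψ : G → ℂ) 1 * R =
          -((ψ : G → ℂ) 1 * (R - (∑ k : G with ¬ p ∣ orderOf k, (ψ : G → ℂ) k) / (ψ : G → ℂ) 1)) := by
        field_simp
        ring
      rw [h5]
      refine memLocalIdeal_neg (memLocalIdeal_mul_left ?_ h3)
      rw [irr_one_eq_charDegree ψ.2]
      exact memLocalRing_natCast _
    have hzero : ∀ ψ : IrrCharacter G, ψ ∉ B0 p G → ∑ g : G with ¬ p ∣ orderOf g, (ψ : G → ℂ) g = 0 := by
      intro ψ hψ
      rw [B0_eq hp hM] at hψ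
      have h1 := S0952.result p M hM ⟨_, isIrrCharacter_one⟩ ψ hψ
      rw [finsum_mem_eq_finite_toFinset_sum _ (Set.toFinite _)] at h1
      have h2 := congrArg conj h1
      rw [map_zero, map_sum] at h2
      rw [← h2]
      refine Finset.sum_congr ?_ fun g _ => ?_
      · ext g
        simp
      · simp
    have h3 : ∑ g : G, φ g * (Nat.card (MulAction.fixedBy X g) : ℂ) =
        ∑ i ∈ S, ∑ g : G with ¬ p ∣ orderOf g, (χ i : G → ℂ) g := by
      simp only [hX.sum, Finset.mul_sum]
      rw [Finset.sum_comm]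
      have h4 : ∀ i, ∑ g : G, φ g * (χ i : G → ℂ) g =
          if i ∈ S then ∑ g : G with ¬ p ∣ orderOf g, (χ i : G → ℂ) g else 0 := by
        intro i
        have h5 : ∑ g : G, φ g * (χ i : G → ℂ) g = ∑ g : G with ¬ p ∣ orderOf g, (χ i : G → ℂ) g := by
          rw [Finset.sum_filter]
          refine Finset.sum_congr rfl fun g _ => ?_
          show (if ¬ p ∣ orderOf g then (1 : ℂ) else 0) * (χ i : G → ℂ) g = _
          split_ifs <;> simp
        rw [h5]
        by_cases hi : i ∈ S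
        · rw [if_pos hi]
        · rw [if_neg hi, hzero _ (fun h => hi ((hS i).2 h))]
      rw [Finset.sum_congr rfl fun i _ => h4 i, ← Finset.sum_filter]
      congr 1
      ext i
      simp
    have h4 : ∑ h : MulAction.stabilizer G x₀, φ h =
        ((Nat.card {x : MulAction.stabilizer G x₀ // ¬ p ∣ orderOf x} : ℕ) : ℂ) := by
      rw [Nat.card_eq_fintype_card, Fintype.card_subtype, ← Finset.sum_boole]
      refine Finset.sum_congr rfl fun h _ => ?_
      show (if ¬ p ∣ orderOf (h : G) then (1 : ℂ) else 0) = _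
      rw [Subgroup.orderOf_coe]
    -- the two expressions
    have h5 : MemLocalIdeal M (∑ i ∈ S, (∑ g : G with ¬ p ∣ orderOf g, (χ i : G → ℂ) g - (χ i : G → ℂ) 1 * R)) :=
      memLocalIdeal_sum fun i hi => hreg _ ((hS i).1 hi)
    rw [Finset.sum_sub_distrib, ← Finset.sum_mul, ← h3, h1, h4] at h5
    have h6 : ∑ i ∈ S, (χ i : G → ℂ) 1 = ((∑ i ∈ S, charDegree (χ i : G → ℂ) : ℕ) : ℂ) := by
      push_cast
      exact Finset.sum_congr rfl fun i _ => hdeg i
    rw [h6] at h5
    have h7 : MemLocalIdeal M (((∑ i ∈ S, charDegree (χ i : G → ℂ) : ℕ) : ℂ) * R) :=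
      memLocalIdeal_mul_right ((memLocalIdeal_natCast_iff hM _).2 hdvd) (memLocalRing_natCast _)
    have h8 := memLocalIdeal_add h5 h7
    rw [sub_add_cancel] at h8
    have h9 : MemLocalIdeal M ((Nat.card X * Nat.card {x : MulAction.stabilizer G x₀ // ¬ p ∣ orderOf x} : ℕ) : ℂ) := by
      push_cast
      exact h8
    rcases hp.dvd_mul.1 ((memLocalIdeal_natCast_iff hM _).1 h9) with h10 | h10
    · exact hX' h10
    · exact Cfsg.Agent.Blocks.RegularCount.not_dvd_card_regular h10

end Cfsg.Agent.H329.PQ
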